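import Cfsg.Agent.H265.Der.Semi

/-!
# Eigenvalues: `SC T v` implies `v - 1 ≤ |Aut F| * dim` (helper265, for S3500)
-/

set_option autoImplicit false

namespace Cfsg.Agent.H265.Der

open Cfsg Cfsg.Geo Cfsg.Agent.H439.Der Polynomial
open scoped MatrixGroups Matrix

section mat

variable {ι : Type} [Fintype ι] [DecidableEq ι] {F : Type*} [Field F]

theorem charpoly_semi {σ : F ≃+* F} {T : (ι → F) ≃+ (ι → F)} (hs : ∀ (c : F) (v : ι → F), T (c • v) = σ c • T v)
    {A B : Matrix ι ι F} (h : ∀ v, B *ᵥ T v = T (A *ᵥ v)) : B.charpoly = A.charpoly.map (σ : F →+* F) := by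
  let P : Matrix ι ι F := Matrix.of fun i j => T (Pi.single j 1) i
  have hP : ∀ v : ι → F, T v = P *ᵥ (fun i => σ (v i)) := by
    intro v
    have h1 : v = ∑ j, v j • (Pi.single j (1 : F) : ι → F) := by
      ext i
      simp [Finset.sum_apply, Pi.single_apply]
    conv_lhs => rw [h1]
    rw [map_sum]
    ext i
    rw [Finset.sum_apply, Matrix.mulVec, dotProduct]
    refine Finset.sum_congr rfl fun j _ => ?_
    rw [hs, Pi.smul_apply, smul_eq_mul, mul_comm]
    rfl
  have hunit : IsUnit P := by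
    rw [← Matrix.mulVec_surjective_iff_isUnit]
    intro y
    obtain ⟨v, rfl⟩ := T.surjective y
    exact ⟨_, (hP v).symm⟩
  obtain ⟨U, hU⟩ := hunit
  have h2 : B * P = P * A.map σ := by
    apply Matrix.ext_of_mulVec_single
    intro j
    rw [← Matrix.mulVec_mulVec, ← Matrix.mulVec_mulVec]
    have h3 : P *ᵥ (Pi.single j 1) = T (Pi.single j 1) := by
      rw [hP]
      congr 1
      ext i
      by_cases hij : i = j
      · subst hij; simp
      · simp [hij]
    rw [h3, h, hP]
    congr 1
    ext i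
    simp [Matrix.mulVec_single]
  have h3 : B = (U : Matrix ι ι F) * A.map σ * ((U⁻¹ : (Matrix ι ι F)ˣ) : Matrix ι ι F) := by
    rw [hU, ← h2, ← hU, mul_assoc, Units.mul_inv, mul_one]
  rw [h3, Matrix.coe_units_inv, Matrix.charpoly_units_conj]
  exact Matrix.charpoly_map A (σ : F →+* F)

theorem exists_eig {K : Type*} [Field K] [IsAlgClosed K] {B : Matrix ι ι K} {v : ℕ} (hv : v.Prime)
    (hvF : (v : K) ≠ 0) (h1 : B ^ v = 1) (h2 : B ≠ 1) : ∃ l : K, orderOf l = v ∧ l ∈ spectrum K B := by
  have := Fact.mk hv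
  let Φ : K[X] := ∑ i ∈ Finset.range v, X ^ i
  have hΦ : Φ * (X - 1) = X ^ v - 1 := geom_sum_mul X v
  have h3 : aeval B Φ * (B - 1) = 0 := by
    have h4 := congrArg (aeval B) hΦ
    rw [map_mul, map_sub, map_sub, map_pow, aeval_X, map_one, h1, sub_self] at h4
    exact h4
  have h5 : ¬ IsUnit (aeval B Φ) := by
    intro hu
    apply h2
    exact sub_eq_zero.1 ((hu.mul_right_eq_zero).1 h3)
  have h6 : (0 : K) ∈ spectrum K (aeval B Φ) := by
    rw [spectrum.zero_mem_iff]
    exact h5
  have hdeg : 0 < Φ.degree := by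
    have h7 : Φ.natDegree = v - 1 := by
      have h8 := congrArg natDegree hΦ
      have h9 : (X ^ v - 1 : K[X]).natDegree = v := by
        have := natDegree_X_pow_sub_C (n := v) (r := (1 : K))
        rwa [C_1] at this
      have h10 : (X - 1 : K[X]).natDegree = 1 := by
        have := natDegree_X_sub_C (1 : K)
        rwa [C_1] at this
      have h11 : (X - 1 : K[X]) ≠ 0 := by
        intro h0
        rw [h0, natDegree_zero] at h10
        omega
      have h12 : Φ ≠ 0 := by
        rintro h0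
        rw [h0, zero_mul, natDegree_zero, h9] at h8
        exact hv.ne_zero h8.symm
      rw [natDegree_mul h12 h11, h9, h10] at h8
      omega
    have := hv.one_lt
    exact natDegree_pos_iff_degree_pos.1 (by omega)
  rw [spectrum.map_polynomial_aeval_of_degree_pos B Φ hdeg] at h6
  obtain ⟨l, hl, hl0⟩ := h6
  have hl0' : Φ.eval l = 0 := hl0
  refine ⟨l, orderOf_eq_prime ?_ ?_, hl⟩
  · have h7 := congrArg (eval l) hΦ
    rw [eval_mul, hl0', zero_mul, eval_sub, eval_pow, eval_X, eval_one] at h7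
    exact (sub_eq_zero.1 h7.symm)
  · rintro rfl
    apply hvF
    rw [← hl0']
    simp [Φ, eval_finsetSum]

end mat

section sc

variable {ι : Type} [Fintype ι] [DecidableEq ι] {F : Type} [Field F] [Fintype F] {Q : QuadraticForm F (ι → F)}

/-- **Eigenvalue bound.** -/
theorem sc_bound (hS : SemiAut (⇑Q)) (hD : H390.Lift.Data Q) {v : ℕ} (hv : v.Prime) (hv2 : v ≠ 2) (hvF : (v : F) ≠ 0)
    (hd : v ∣ Nat.card (POmega F ⇑Q)) (h : SC (POmega F ⇑Q) v) :
    v - 1 ≤ Nat.card (F ≃+* F) * Fintype.card ι := by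
  classical
  have := Fact.mk hv
  obtain ⟨x, hx⟩ := exists_prime_orderOf_dvd_card' v hd
  have hodd : Odd v := hv.odd_of_ne_two hv2
  obtain ⟨g, rfl, hg⟩ := exists_lift hD hodd hx
  have hg1 : g ^ v = 1 := by rw [← hg]; exact pow_orderOf_eq_one g
  set K := AlgebraicClosure F
  let a : F →+* K := algebraMap F K
  set B : Matrix ι ι K := a.mapMatrix (ac g) with hB
  have hBv : B ^ v = 1 := by
    rw [hB, ← map_pow, ← ac_pow, hg1, ac_one, map_one]
  have hB1 : B ≠ 1 := by
    intro h1
    have h2 : ac g = 1 := by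
      have h3 : a.mapMatrix (ac g) = a.mapMatrix (1 : Matrix ι ι F) := by rw [← hB, h1, map_one]
      exact Matrix.map_injective a.injective h3
    have h3 : g = 1 := ac_injective (h2.trans ac_one.symm)
    rw [h3, orderOf_one] at hg
    exact hv.one_lt.ne hg
  have hvK : (v : K) ≠ 0 := by
    intro h0
    apply hvF
    apply a.injective
    rw [map_natCast, map_zero]
    exact h0
  obtain ⟨l, hl, hlB⟩ := exists_eig hv hvK hBv hB1
  have : Finite (F ≃+* F) := Finite.of_injective (fun f : F ≃+* F => (f : F → F)) DFunLike.coe_injective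
  have := Fintype.ofFinite (F ≃+* F)
  let R : (F ≃+* F) → Finset K := fun σ => (((ac g).charpoly.map (σ : F →+* F)).map a).roots.toFinset
  have hR : ∀ σ, (R σ).card ≤ Fintype.card ι := by
    intro σ
    refine (Multiset.toFinset_card_le _).trans ((card_roots' _).trans ?_)
    refine (natDegree_map_le).trans ((natDegree_map_le).trans ?_)
    rw [Matrix.charpoly_natDegree_eq_dim]
  have hmem : ∀ k ∈ (Finset.range v).erase 0, l ^ k ∈ Finset.univ.biUnion R := by
    intro k hk
    rw [Finset.mem_erase, Finset.mem_range] at hk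
    have hco : Nat.Coprime v k := (Nat.Prime.coprime_iff_not_dvd hv).2 fun h1 => by
      have := Nat.le_of_dvd (by omega) h1
      omega
    have hk2 : orderOf ((QuotientGroup.mk g : POmega F ⇑Q) ^ k) = v := by
      rw [Nat.Coprime.orderOf_pow (by rw [hx]; exact hco), hx]
    obtain ⟨φ, hφ⟩ := h _ _ (by rw [hx]) (show v ∣ orderOf ((QuotientGroup.mk g : POmega F ⇑Q) ^ k) by rw [hk2])
    obtain ⟨σ, μ, T, -, hs, -, hT⟩ := hS φ
    obtain ⟨g', h1, h2⟩ := hT g
    have h3 : g' ^ v = 1 := by
      apply eq_one_of_act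
      intro w
      obtain ⟨u, rfl⟩ := T.surjective w
      rw [pow_eq_one_of_semi h1, hg1, ac_one, Matrix.one_mulVec]
    have h4 : g' = g ^ k := lift_eq hD hodd h3 (by rw [← pow_mul, mul_comm, pow_mul, hg1, one_pow])
      (by rw [← h2, hφ]; rfl)
    subst h4
    have h5 := charpoly_semi hs h1
    rw [Finset.mem_biUnion]
    refine ⟨σ, Finset.mem_univ _, ?_⟩
    have h6 : l ^ k ∈ spectrum K (B ^ k) := spectrum.pow_mem_pow B k hlB
    rw [Matrix.mem_spectrum_iff_isRoot_charpoly] at h6
    have h7 : (B ^ k).charpoly = ((ac g).charpoly.map (σ : F →+* F)).map a := by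
      rw [← h5, hB, ← map_pow, ← ac_pow]
      exact Matrix.charpoly_map _ a
    rw [h7] at h6
    change l ^ k ∈ (((ac g).charpoly.map (σ : F →+* F)).map a).roots.toFinset
    rw [Multiset.mem_toFinset, mem_roots']
    refine ⟨?_, h6⟩
    exact ((((ac g).charpoly_monic).map _).map _).ne_zero
  have hinj : Set.InjOn (fun k => l ^ k) ((Finset.range v).erase 0 : Finset ℕ) := by
    intro i hi j hj hij
    rw [Finset.mem_coe, Finset.mem_erase, Finset.mem_range] at hi hj
    exact pow_injOn_Iio_orderOf (by rw [Set.mem_Iio, hl]; exact hi.2) (by rw [Set.mem_Iio, hl]; exact hj.2) hij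
  have h1 := Finset.card_le_card_of_injOn (fun k => l ^ k) hmem hinj
  rw [Finset.card_erase_of_mem (Finset.mem_range.2 hv.pos), Finset.card_range] at h1
  refine h1.trans (Finset.card_biUnion_le.trans ?_)
  refine (Finset.sum_le_card_nsmul _ _ _ fun σ _ => hR σ).trans ?_
  rw [Finset.card_univ, smul_eq_mul, Nat.card_eq_fintype_card]

end sc

end Cfsg.Agent.H265.Der
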