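import Cfsg.Agent.H265.Der.Nsc
import Cfsg.Agent.H377.ToOmega

/-!
# Elements of `Ω_{4k+1}(q)` of order `2r`, `r` a primitive prime of `q^(2k) - 1` (helper265, for S3500)

* `exists_A` : the `r`-part has fixed space of dimension `2k + 1`
* `exists_B` : the `r`-part has fixed space of dimension `1`
-/

set_option autoImplicit false
set_option linter.unusedSectionVars false

namespace Cfsg.Agent.H265.Der

open Cfsg Cfsg.Geo Cfsg.Agent.H439.Der Cfsg.Agent.LieClassical.OmegaReindex Cfsg.Agent.H377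
open Cfsg.Agent.LieClassical.OrthCore QuadraticMap
open Cfsg.Agent.H884.El (PP)
open scoped MatrixGroups Matrix

/-- **elements of `POmega` from isometries, with their action** -/
theorem exists_act {F : Type} [Field F] [Finite F] {ι : Type} [Fintype ι] [DecidableEq ι]
    (Q : QuadraticForm F (ι → F)) (hQ : Nondeg Q)
    (h5 : 5 ≤ Fintype.card ι) {V : Type*} [AddCommGroup V] [Module F V] (Q' : V → F) (e : (ι → F) ≃ₗ[F] V)
    (c : F) (hc : c ≠ 0) (he : ∀ u, Q' (e u) = c * Q u) (T : Module.End F V) (hT : ∀ v, Q' (T v) = Q' v) (N : ℕ)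
    (hN : ∀ j : ℕ, (T ^ (2 * j) = 1 ∨ T ^ (2 * j) = -1) ↔ N ∣ j) :
    ∃ z : Omega F ⇑Q, orderOf (QuotientGroup.mk z : POmega F ⇑Q) = N ∧
      ∀ (j : ℕ) (x : ι → F), ac (z ^ j) *ᵥ x = e.symm ((T ^ (2 * j)) (e x)) := by
  classical
  let φ : Module.End F V ≃ₐ[F] Matrix ι ι F := (e.symm.conjAlgEquiv F).trans LinearMap.toMatrixAlgEquiv'
  have hφ : ∀ (S : Module.End F V) (x : ι → F), (φ S).mulVec x = e.symm (S (e x)) := by
    intro S x
    show (LinearMap.toMatrix' (e.symm.conj S)).mulVec x = _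
    rw [LinearMap.toMatrix'_mulVec]
    rfl
  have hM : ∀ x, Q ((φ T).mulVec x) = Q x := by
    intro x
    apply mul_left_cancel₀ hc
    rw [← he, ← he, hφ, e.apply_symm_apply, hT]
  have hinj : ∀ x, (φ T).mulVec x = 0 → x = 0 := by
    intro x hx
    apply hQ
    intro y
    have h1 : polar Q ((φ T).mulVec x) ((φ T).mulVec y) = polar Q x y := by
      rw [polar, polar, ← Matrix.mulVec_add, hM, hM, hM]
    rw [← h1, hx]
    simp [polar]
  have hunit : IsUnit (φ T) := by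
    rw [← Matrix.mulVec_injective_iff_isUnit]
    intro x y hxy
    have h1 : (φ T).mulVec (x - y) = 0 := by
      rw [Matrix.mulVec_sub]
      exact sub_eq_zero.2 hxy
    exact sub_eq_zero.1 (hinj _ h1)
  obtain ⟨M, hM'⟩ := hunit
  have hmem : M ∈ isometryGroup F ⇑Q := by
    rw [Cfsg.Agent.LieClassical.OrthFinite.mem_isometryGroup_iff]
    intro x
    rw [hM']
    exact hM x
  let g : isometryGroup F ⇑Q := ⟨M, hmem⟩
  let z : Omega F ⇑Q := ⟨g * g, mul_self_mem_Omega Q hQ h5 g⟩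
  have hz : ∀ j : ℕ, ac (z ^ j) = φ (T ^ (2 * j)) := by
    intro j
    rw [ac_pow, map_pow, ← hM', pow_mul, pow_two]
    rfl
  have hs : ∃ u : ι → F, u ≠ 0 ∧ Q u = 0 := by
    obtain ⟨w, -, h1, h2⟩ := Cfsg.Agent.LieClassical.OrthFinite.exists_sing_mem (Q := Q) (⊤ : Submodule F (ι → F)) (by
      rw [finrank_top, Module.finrank_fintype_fun_eq_card]
      omega)
    exact ⟨w, h1, h2⟩
  refine ⟨z, orderOf_eq_of_forall fun j => ?_, fun j x => by rw [hz, hφ]⟩
  rw [← QuotientGroup.mk_pow, QuotientGroup.eq_one_iff,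
    Cfsg.Agent.LieClassical.OrthCenter.mem_center_omega_iff (nondegenerate_of_nondeg hQ) (by omega) hs]
  change (ac (z ^ j) = 1 ∨ ac (z ^ j) = -1) ↔ _
  rw [hz, ← hN]
  constructor
  · rintro (h | h)
    · left; apply φ.injective; rw [h, map_one]
    · right; apply φ.injective; rw [h, map_neg, map_one]
  · rintro (h | h)
    · left; rw [h, map_one]
    · right; rw [h, map_neg, map_one]

/-- an element of order a primitive prime of `q ^ dim - 1` has no fixed vectors -/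
theorem no_fix {F : Type} [Field F] [Fintype F] {V : Type*} [AddCommGroup V] [Module F V] [FiniteDimensional F V]
    {g : Module.End F V} {r e : ℕ} (hr : PP (Nat.card F) e r) (hV : Module.finrank F V = e) (hrF : (r : F) ≠ 0)
    (hg : g ^ r = 1) (hg1 : g ≠ 1) (v : V) (hv : g v = v) : v = 0 := by
  have := Fact.mk hr.prime
  have h1 : orderOf (Fintype.card F : ZMod r) ∣ Module.finrank F (H951.cm g) :=
    H951.ord_dvd_finrank hg H951.inv_cm (by
      rw [inf_comm]; exact (H951.isCompl_fx_cm hrF hg).inf_eq_bot)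
  rw [← Nat.card_eq_fintype_card, hr.ord] at h1
  have h2 : Module.finrank F (H951.fx g) + Module.finrank F (H951.cm g) = Module.finrank F V :=
    Submodule.finrank_add_eq_of_isCompl (H951.isCompl_fx_cm hrF hg)
  have h3 : Module.finrank F (H951.cm g) ≠ 0 := by
    intro h0
    apply hg1
    refine LinearMap.ext fun w => ?_
    have h4 : g w - w ∈ H951.cm g := H951.mem_cm.2 ⟨w, rfl⟩
    rw [Submodule.finrank_eq_zero.1 h0, Submodule.mem_bot] at h4
    exact sub_eq_zero.1 h4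
  have h4 := Nat.le_of_dvd (by omega) h1
  have h5 : Module.finrank F (H951.fx g) = 0 := by omega
  have h6 : v ∈ H951.fx g := H951.mem_fx.2 hv
  rw [Submodule.finrank_eq_zero.1 h5, Submodule.mem_bot] at h6
  exact h6

section ex

variable {F : Type} [Field F] [Fintype F]

/-- elements of `Ω_{4k+1}(q)` from isometries in dimension `4k` -/
theorem exists_of_pair (h2 : (2 : F) ≠ 0) {k : ℕ} (hk : 2 ≤ k) {Q₁ Q₂ : QuadraticForm F (Fin (2 * k) → F)}
    (hQ₁ : Nondeg Q₁) (hQ₂ : Nondeg Q₂) (S : Module.End F ((Fin (2 * k) → F) × (Fin (2 * k) → F)))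
    (hS : ∀ v, sumQ Q₁ Q₂ (S v) = sumQ Q₁ Q₂ v) {N : ℕ} (hN : ∀ j : ℕ, S ^ (2 * j) = 1 ↔ N ∣ j) :
    ∃ z : Omega F ⇑(quadOdd (2 * k) F), orderOf (QuotientGroup.mk z : POmega F ⇑(quadOdd (2 * k) F)) = N ∧
      (∀ j, N ∣ j → z ^ j = 1) ∧
      ∀ j, fixn (z ^ j) = Nat.card {v : (Fin (2 * k) → F) × (Fin (2 * k) → F) // (S ^ (2 * j)) v = v} * Nat.card F := by
  let Q₀ : QuadraticForm F F := QuadraticMap.sq
  have hQ₀ : Nondeg Q₀ := by
    intro x hx
    have h3 := hx 1
    simp only [polar, Q₀, QuadraticMap.sq_apply] at h3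
    have h4 : 2 * x = 0 := by linear_combination h3
    exact (mul_eq_zero.1 h4).resolve_left h2
  have hR : Nondeg (sumQ (sumQ Q₁ Q₂) Q₀) := sumQ_nondeg (sumQ_nondeg hQ₁ hQ₂) hQ₀
  have hfr : Module.finrank F (((Fin (2 * k) → F) × (Fin (2 * k) → F)) × F) = 2 * (2 * k) + 1 := by
    rw [Module.finrank_prod, Module.finrank_prod, Module.finrank_fin_fun, Module.finrank_self]
    ring
  obtain ⟨c, e, hc, he⟩ := exists_similar_odd hfr (sumQ (sumQ Q₁ Q₂) Q₀) hR
  have hpow : ∀ j : ℕ, ((S.prodMap (1 : Module.End F F) : Module.End F _) ^ j) =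
      ((S ^ j).prodMap (1 : Module.End F F) : Module.End F _) := by
    intro j
    rw [prodMap_pow', one_pow]
  have hneg : ∀ j : ℕ, ((S.prodMap (1 : Module.End F F) : Module.End F _) ^ j) ≠ -1 := by
    intro j hj
    rw [hpow, prodMap_eq_neg_one_iff] at hj
    have h3 := LinearMap.congr_fun hj.2 (1 : F)
    change (1 : F) = -1 at h3
    apply h2
    linear_combination h3
  obtain ⟨z, hz1, hz2⟩ := exists_act (quadOdd (2 * k) F) (H955.nondeg_iff.2 (quadOdd_nondegenerate h2))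
    (by rw [H884.El.card_odd]; omega) (⇑(sumQ (sumQ Q₁ Q₂) Q₀)) e c hc (by rw [quadOdd_eq']; exact he)
    (S.prodMap (1 : Module.End F F)) (by
      intro v
      change sumQ Q₁ Q₂ (S v.1) + Q₀ v.2 = sumQ Q₁ Q₂ v.1 + Q₀ v.2
      rw [hS]) N (by
      intro j
      rw [← hN, or_iff_left (hneg _), hpow, prodMap_eq_one_iff]
      exact and_iff_left rfl)
  have hz3 : ∀ (j : ℕ) (x), ac (z ^ j) *ᵥ x = x ↔ (S ^ (2 * j)) (e x).1 = (e x).1 := by
    intro j x
    rw [hz2, hpow, LinearMap.prodMap_apply, LinearEquiv.symm_apply_eq]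
    constructor
    · intro h
      exact congrArg Prod.fst h
    · intro h
      exact Prod.ext h rfl
  refine ⟨z, hz1, fun j hj => ?_, fun j => ?_⟩
  · apply eq_one_of_act
    intro x
    rw [hz3, (hN j).2 hj]
    rfl
  · rw [← Nat.card_prod]
    refine Nat.card_congr ((e.toEquiv.subtypeEquiv (q := fun v => (S ^ (2 * j)) v.1 = v.1) fun x => hz3 j x).trans ?_)
    exact
      { toFun := fun v => (⟨v.1.1, v.2⟩, v.1.2)
        invFun := fun v => ⟨(v.1.1, v.2), v.1.2⟩
        left_inv := fun _ => rfl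
        right_inv := fun _ => rfl }

variable {k r : ℕ}

theorem pp_odd (hk : 2 ≤ k) (hr : PP (Nat.card F) (2 * k) r) : Odd r := by
  have := hr.lt (by omega)
  exact hr.prime.odd_of_ne_two (by omega)

/-- the isometry of order `r` in dimension `2k` -/
theorem exists_g (hk : 2 ≤ k) (hr : PP (Nat.card F) (2 * k) r) :
    ∃ (Q₁ : QuadraticForm F (Fin (2 * k) → F)) (g : Module.End F (Fin (2 * k) → F)), Nondeg Q₁ ∧
      (∀ v, Q₁ (g v) = Q₁ v) ∧ orderOf g = r ∧ ∀ v, (g ^ 2) v = v → v = 0 := by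
  obtain ⟨-, Q₁, g, h1, -, h3, h4⟩ := elt_tor_minus (F := F) (k := k) (N := r) (by omega)
    (H938.Sax.dvd_pow_add_one Nat.card_pos (by omega) hr)
  have hodd := pp_odd hk hr
  refine ⟨Q₁, g, h1, h3, h4, fun v hv => ?_⟩
  have hgr : g ^ r = 1 := by rw [← h4]; exact pow_orderOf_eq_one g
  refine no_fix (F := F) hr (by rw [Module.finrank_fin_fun]) (hr.ne0 (by omega)) (g := g ^ 2) ?_ ?_ v hv
  · rw [← pow_mul, mul_comm 2 r, pow_mul, hgr, one_pow]
  · intro h
    have h5 := orderOf_dvd_of_pow_eq_one h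
    rw [h4] at h5
    have := Nat.le_of_dvd (by norm_num) h5
    have := hr.lt (by omega)
    omega

/-- **type A** -/
theorem exists_A (h2 : (2 : F) ≠ 0) (hk : 2 ≤ k) (hr : PP (Nat.card F) (2 * k) r) :
    ∃ z : Omega F ⇑(quadOdd (2 * k) F), orderOf (QuotientGroup.mk z : POmega F ⇑(quadOdd (2 * k) F)) = 2 * r ∧
      (z ^ (r + 1)) ^ r = 1 ∧ fixn (z ^ (r + 1)) = Nat.card F ^ (2 * k) * Nat.card F := by
  have hodd := pp_odd hk hr
  obtain ⟨Q₁, g, hQ₁, hg, hgo, hgf⟩ := exists_g hk hr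
  obtain ⟨-, Q₂, t, hQ₂, -, ht, hto⟩ := elt_four (F := F) hk (Or.inl rfl : (1 : ℤ) = 1 ∨ (1 : ℤ) = -1)
  have hN : ∀ j : ℕ, (g.prodMap t : Module.End F ((Fin (2 * k) → F) × (Fin (2 * k) → F))) ^ (2 * j) = 1 ↔
      2 * r ∣ j := by
    intro j
    rw [prodMap_pow', prodMap_eq_one_iff, ← orderOf_dvd_iff_pow_eq_one, ← orderOf_dvd_iff_pow_eq_one, hgo, hto]
    have hco : Nat.Coprime 2 r := Nat.coprime_two_left.2 hodd
    constructor
    · rintro ⟨h1, h3⟩
      exact hco.mul_dvd_of_dvd_of_dvd (by omega) (hco.symm.dvd_of_dvd_mul_left h1)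
    · rintro ⟨c, rfl⟩
      exact ⟨⟨4 * c, by ring⟩, ⟨r * c, by ring⟩⟩
  obtain ⟨z, h1, h3, h4⟩ := exists_of_pair h2 hk hQ₁ hQ₂ (g.prodMap t) (fun v => by
    rw [sumQ_apply, sumQ_apply, LinearMap.prodMap_apply, hg, ht]) hN
  have hr1 : Even (r + 1) := hodd.add_one
  refine ⟨z, h1, ?_, ?_⟩
  · rw [← pow_mul]
    refine h3 _ ?_
    obtain ⟨c, hc⟩ := hr1
    exact ⟨c, by rw [hc]; ring⟩
  · rw [h4]
    congr 1
    have h5 : ∀ v : (Fin (2 * k) → F) × (Fin (2 * k) → F),
        ((g.prodMap t : Module.End F _) ^ (2 * (r + 1))) v = v ↔ v.1 = 0 := by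
      intro v
      have h6 : g ^ (2 * (r + 1)) = g ^ 2 := by
        rw [show 2 * (r + 1) = r * 2 + 2 by ring, pow_add, pow_mul, ← hgo, pow_orderOf_eq_one, one_pow, one_mul]
      have h7 : t ^ (2 * (r + 1)) = 1 := by
        obtain ⟨c, hc⟩ := hr1
        rw [hc, show 2 * (c + c) = 4 * c by ring, pow_mul, ← hto, pow_orderOf_eq_one, one_pow]
      rw [prodMap_pow', h6, h7, LinearMap.prodMap_apply]
      constructor
      · intro h
        exact hgf _ (congrArg Prod.fst h)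
      · intro h
        refine Prod.ext ?_ rfl
        change (g ^ 2) v.1 = v.1
        rw [h, map_zero]
    rw [Nat.card_congr (Equiv.subtypeEquivRight h5)]
    have h8 : Nat.card (Fin (2 * k) → F) = Nat.card F ^ (2 * k) := by
      rw [Nat.card_fun, Nat.card_fin]
    rw [← h8]
    exact Nat.card_congr
      { toFun := fun v => v.1.2
        invFun := fun b => ⟨(0, b), rfl⟩
        left_inv := fun v => Subtype.ext (Prod.ext v.2.symm rfl)
        right_inv := fun _ => rfl }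

/-- **type B** -/
theorem exists_B (h2 : (2 : F) ≠ 0) (hk : 2 ≤ k) (hr : PP (Nat.card F) (2 * k) r) :
    ∃ z : Omega F ⇑(quadOdd (2 * k) F), orderOf (QuotientGroup.mk z : POmega F ⇑(quadOdd (2 * k) F)) = 2 * r ∧
      (z ^ (r + 1)) ^ r = 1 ∧ fixn (z ^ (r + 1)) = Nat.card F := by
  have hodd := pp_odd hk hr
  obtain ⟨Q₁, g, hQ₁, hg, hgo, hgf⟩ := exists_g hk hr
  have : Nonempty (Fin (2 * k)) := ⟨⟨0, by omega⟩⟩
  have hgr : g ^ r = 1 := by rw [← hgo]; exact pow_orderOf_eq_one g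
  let S : Module.End F ((Fin (2 * k) → F) × (Fin (2 * k) → F)) :=
    (-(g.comp (LinearMap.snd F _ _))).prod (g.comp (LinearMap.fst F _ _))
  have hS : ∀ v, S v = (-(g v.2), g v.1) := fun _ => rfl
  have hS2 : S ^ 2 = ((-(g ^ 2)).prodMap (-(g ^ 2)) : Module.End F _) := by
    refine LinearMap.ext fun v => ?_
    rw [pow_two, Module.End.mul_apply, hS, hS, LinearMap.prodMap_apply, pow_two]
    refine Prod.ext rfl ?_
    change g (-(g v.2)) = -(g (g v.2))
    rw [map_neg]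
  have hSj : ∀ j : ℕ, S ^ (2 * j) = (((-(g ^ 2)) ^ j).prodMap ((-(g ^ 2)) ^ j) : Module.End F _) := by
    intro j
    rw [pow_mul, hS2, prodMap_pow']
  have hev : ∀ j : ℕ, Even j → (-(g ^ 2)) ^ j = g ^ (2 * j) := by
    intro j hj
    refine (Even.neg_pow hj (g ^ 2)).trans ?_
    rw [← pow_mul]
  have hod : ∀ j : ℕ, Odd j → (-(g ^ 2)) ^ j = -g ^ (2 * j) := by
    intro j hj
    refine (Odd.neg_pow hj (g ^ 2)).trans ?_
    rw [← pow_mul]
  have hne : (1 : Module.End F (Fin (2 * k) → F)) ≠ -1 := by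
    intro h
    have h3 := congrFun (LinearMap.congr_fun h (fun _ => (1 : F))) (Classical.arbitrary _)
    change (1 : F) = -1 at h3
    apply h2
    linear_combination h3
  have hN : ∀ j : ℕ, S ^ (2 * j) = 1 ↔ 2 * r ∣ j := by
    intro j
    rw [hSj, prodMap_eq_one_iff, and_self]
    have hco : Nat.Coprime 2 r := Nat.coprime_two_left.2 hodd
    constructor
    · intro h1
      rcases Nat.even_or_odd j with hj | hj
      · rw [hev j hj, ← orderOf_dvd_iff_pow_eq_one, hgo] at h1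
        exact hco.mul_dvd_of_dvd_of_dvd hj.two_dvd (hco.symm.dvd_of_dvd_mul_left h1)
      · exfalso
        rw [hod j hj] at h1
        have h3 : g ^ (2 * j) = -1 := by rw [← h1, neg_neg]
        have h4 := neg_one_pow_ne hodd hgr _ h3
        exact hne (h4.symm.trans h3)
    · rintro ⟨c, rfl⟩
      rw [hev _ ⟨r * c, by ring⟩, ← orderOf_dvd_iff_pow_eq_one, hgo]
      exact ⟨4 * c, by ring⟩
  obtain ⟨z, h1, h3, h4⟩ := exists_of_pair h2 hk hQ₁ hQ₁ S (fun v => by
    rw [sumQ_apply, sumQ_apply, hS]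
    change Q₁ (-(g v.2)) + Q₁ (g v.1) = _
    rw [QuadraticMap.map_neg, hg, hg, add_comm]) hN
  have hr1 : Even (r + 1) := hodd.add_one
  refine ⟨z, h1, ?_, ?_⟩
  · rw [← pow_mul]
    refine h3 _ ?_
    obtain ⟨c, hc⟩ := hr1
    exact ⟨c, by rw [hc]; ring⟩
  · rw [h4]
    have h5 : ∀ v : (Fin (2 * k) → F) × (Fin (2 * k) → F), (S ^ (2 * (r + 1))) v = v ↔ v = 0 := by
      intro v
      have h6 : g ^ (2 * (r + 1)) = g ^ 2 := by
        rw [show 2 * (r + 1) = r * 2 + 2 by ring, pow_add, pow_mul, hgr, one_pow, one_mul]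
      rw [hSj, hev _ hr1, h6, LinearMap.prodMap_apply]
      constructor
      · intro h
        exact Prod.ext (hgf _ (congrArg Prod.fst h)) (hgf _ (congrArg Prod.snd h))
      · rintro rfl
        refine Prod.ext ?_ ?_
        · exact map_zero (g ^ 2)
        · exact map_zero (g ^ 2)
    rw [Nat.card_congr (Equiv.subtypeEquivRight h5)]
    have : Unique {v : (Fin (2 * k) → F) × (Fin (2 * k) → F) // v = 0} := ⟨⟨⟨0, rfl⟩⟩, fun v => Subtype.ext v.2⟩
    rw [Nat.card_unique, one_mul]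

end ex

end Cfsg.Agent.H265.Der
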