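import Cfsg.Agent.H265.Der.Elts
import Cfsg.Agent.H264.FKS.TwoCl

/-!
# Subgroups of `Ω_{4k+1}(q)` missing one of the two types of elements of order `r` (helper265, for S3500)

* `two_of_type` : a subgroup missing a type satisfies `Two`
* `special_two` : the stabiliser of a minus point
* `cyc_two` : the subgroups with cyclic Sylow `r`-subgroups
-/

set_option autoImplicit false
set_option linter.unusedSectionVars false

namespace Cfsg.Agent.H265.Der

open Cfsg Cfsg.Geo Cfsg.Agent.H439.Der Cfsg.Agent.LieClassical.OmegaReindex Cfsg.Agent.H377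
open Cfsg.Agent.LieClassical.OrthCore QuadraticMap Module
open Cfsg.Agent.H955 (IsPlus res perp nondeg_perp nondeg_res_iff finrank_add_perp isCompl_perp isPlus_iff_of_free mem_perp)
open Cfsg.Agent.H884.El (PP pre lin pre_le mem_pre lin_iso inv_of_mem)
open Cfsg.Agent.H951 (Inv fx)
open scoped MatrixGroups Matrix

section

variable {ι : Type} [Fintype ι] [DecidableEq ι] {F : Type} [Field F] [Fintype F] {Q : QuadraticForm F (ι → F)}

/-- a subgroup missing a type of elements of order `r` -/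
theorem two_of_type (hS : SemiAut (⇑Q)) {r n : ℕ} (hr : r.Prime) {M : Subgroup (POmega F ⇑Q)}
    {z : Omega F ⇑Q} (h1 : orderOf (QuotientGroup.mk z : POmega F ⇑Q) = 2 * r) (h2 : (z ^ (r + 1)) ^ r = 1)
    (h3 : fixn (z ^ (r + 1)) = n) (hM : ∀ x ∈ M, orderOf x = r → ¬ Ty r x n) : Two (POmega F ⇑Q) M := by
  have := Fact.mk hr
  have hx : orderOf ((QuotientGroup.mk z : POmega F ⇑Q) ^ (r + 1)) = r := by
    refine orderOf_eq_prime ?_ ?_
    · have h4 : ((QuotientGroup.mk z : POmega F ⇑Q) ^ (r + 1)) ^ r = QuotientGroup.mk ((z ^ (r + 1)) ^ r) := rfl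
      rw [h4, h2]
      rfl
    · intro h4
      have h5 := orderOf_dvd_of_pow_eq_one h4
      rw [h1] at h5
      have h6 := (Nat.dvd_mul_left r 2).trans h5
      have h7 := (Nat.dvd_add_right (dvd_refl r)).1 h6
      exact hr.one_lt.ne' (Nat.dvd_one.1 h7)
  have hty : Ty r ((QuotientGroup.mk z : POmega F ⇑Q) ^ (r + 1)) n := ⟨z ^ (r + 1), rfl, h2, h3⟩
  have key : ∀ φ : POmega F ⇑Q ≃* POmega F ⇑Q, φ ((QuotientGroup.mk z : POmega F ⇑Q) ^ (r + 1)) ∉ M := by
    intro φ hφ
    refine hM _ hφ ?_ (hty.map hS φ)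
    rw [H938.Sax.orderOf_mulEquiv, hx]
  refine ⟨_, QuotientGroup.mk z, key, fun φ hφ => key φ ?_, fun φ hφ => ?_⟩
  · rw [map_pow]
    exact pow_mem hφ _
  · have h4 : orderOf (φ ((QuotientGroup.mk z : POmega F ⇑Q) ^ (r + 1))) = 2 * r := by rw [hφ, h1]
    rw [H938.Sax.orderOf_mulEquiv, hx] at h4
    have := hr.pos
    omega

/-- **elements of order `r` with one-dimensional fixed space do not fix a minus point** -/
theorem not_ty_of_point (h2F : (2 : F) ≠ 0) (hQ : Nondeg Q) {m r : ℕ} (hd : Fintype.card ι = 2 * m + 1)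
    (hr : r.Prime) (hr2 : 2 < r) (hrq : ¬ r ∣ Nat.card F) (hqm : (Nat.card F : ZMod r) ^ m = 1)
    {M : Subgroup (POmega F (⇑Q))} {u : ι → F} (hu : Q u ≠ 0)
    (hM : pre (⇑Q) M ≤ subspaceStabilizer (Submodule.span F {u}))
    (hP : ¬ IsPlus (res Q (perp Q (Submodule.span F {u})))) (x : POmega F ⇑Q) (hx : x ∈ M) :
    ¬ Ty r x (Nat.card F) := by
  rintro ⟨y, rfl, hyr, hfix⟩
  have := Fact.mk hr
  have hodd : Odd r := hr.odd_of_ne_two (by omega)
  set g : GL ι F := ((y : isometryGroup F (⇑Q)) : GL ι F) with hg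
  have h1 : g ∈ pre (⇑Q) M := mem_pre.2 hx
  have h3 : ∀ v, Q (lin g v) = Q v := fun v => lin_iso pre_le h1 v
  have hgr : lin g ^ r = 1 := by
    have h4 : g ^ r = 1 := by
      rw [hg, ← Subgroup.coe_pow, ← Subgroup.coe_pow, hyr]
      rfl
    rw [← H251.GeoCard.toLin_pow, h4]
    exact H884.El.lin_one
  have hfu : lin g u = u := H938.Sax.fix_of_line h3 hodd hgr hu
    (inv_of_mem (hM h1) u (Submodule.mem_span_singleton_self u))
  have hu0 : u ≠ 0 := by
    rintro rfl
    exact hu (QuadraticMap.map_zero Q)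
  -- the fixed space
  have hfx : Submodule.span F {u} = fx (lin g) := by
    refine Submodule.eq_of_le_of_finrank_eq ?_ ?_
    · rw [Submodule.span_singleton_le_iff_mem]
      exact H951.mem_fx.2 hfu
    · rw [finrank_span_singleton hu0]
      have h4 : Nat.card (fx (lin g)) = Nat.card F := by
        rw [← hfix]
        exact Nat.card_congr (Equiv.subtypeEquivRight fun v => by
          rw [H951.mem_fx, lin, Matrix.toLin'_apply])
      rw [Module.natCard_eq_pow_finrank (K := F)] at h4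
      have h5 : Nat.card F ^ finrank F (fx (lin g)) = Nat.card F ^ 1 := by rw [h4, pow_one]
      exact (Nat.pow_right_injective Finite.one_lt_card h5).symm
  set W := perp Q (Submodule.span F {u}) with hW
  have hpol : ∀ a b, polar Q (lin g a) (lin g b) = polar Q a b := fun a b => by
    simp only [polar, ← map_add, h3]
  have hinv : Inv (lin g) W := by
    intro w hw v hv
    obtain ⟨c, rfl⟩ := Submodule.mem_span_singleton.1 hv
    have h4 := hw (c • u) hv
    rw [← hpol, map_smul, hfu] at h4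
    exact h4
  have hnd : ∀ c : F, polar Q (c • u) u = 0 → c = 0 := by
    intro c h4
    rw [polar_smul_left, polar_self, smul_eq_mul, two_nsmul, ← two_mul] at h4
    rcases mul_eq_zero.1 h4 with h | h
    · exact h
    · exact absurd ((mul_eq_zero.1 h).resolve_left h2F) hu
  have hns : Nondeg (res Q (Submodule.span F {u})) := by
    rw [nondeg_res_iff]
    intro x hx hxy
    obtain ⟨c, rfl⟩ := Submodule.mem_span_singleton.1 hx
    rw [hnd c (hxy u (Submodule.mem_span_singleton_self u)), zero_smul]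
  have hnW : Nondeg (res Q W) := nondeg_perp hQ hns
  have hdW : finrank F W = 2 * m := by
    have := finrank_add_perp hQ (Submodule.span F {u})
    rw [finrank_span_singleton (K := F) hu0, Module.finrank_fintype_fun_eq_card, hd, ← hW] at this
    omega
  have hpow : ∀ (n : ℕ) (w : W), ((((lin g).restrict hinv) ^ n) w : ι → F) = (lin g ^ n) w := fun n w =>
    H954.TSing.restrict_pow_coe hinv n w
  have hinj : Function.Injective ((lin g).restrict hinv) := by
    intro a b hab
    have h4 : (lin g) (a : ι → F) = lin g b := congrArg Subtype.val hab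
    apply Subtype.ext
    have h5 : (lin g ^ r) (a : ι → F) = (lin g ^ r) b := by
      have hr1 : r = (r - 1) + 1 := by omega
      rw [hr1, pow_succ, Module.End.mul_apply, Module.End.mul_apply, h4]
    rw [hgr] at h5
    exact h5
  let T : W ≃ₗ[F] W := LinearEquiv.ofInjectiveEndo _ hinj
  have hT : ∀ w : W, T w = (lin g).restrict hinv w := fun w => rfl
  have hTn : ∀ (n : ℕ) (w : W), (T ^ n) w = (((lin g).restrict hinv) ^ n) w := by
    intro n
    induction n with
    | zero => intro w; rfl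
    | succ n ih =>
      intro w
      rw [pow_succ, pow_succ]
      change (T ^ n) (T w) = (((lin g).restrict hinv) ^ n) ((lin g).restrict hinv w)
      rw [ih, hT]
  have hfree : ∀ w : W, T w = w → w = 0 := by
    intro w hw
    have h4 : (w : ι → F) ∈ fx (lin g) := H951.mem_fx.2 (congrArg Subtype.val hw)
    rw [← hfx] at h4
    obtain ⟨c, hc⟩ := Submodule.mem_span_singleton.1 h4
    have h5 : polar Q u (w : ι → F) = 0 := w.2 u (Submodule.mem_span_singleton_self u)
    rw [← hc, polar_comm] at h5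
    apply Subtype.ext
    rw [← hc, hnd c h5, zero_smul]
    rfl
  have hTr : T ^ r = 1 := by
    ext w
    rw [hTn, hpow, hgr]
    rfl
  refine hP ((isPlus_iff_of_free hnW hdW (T := T) (fun w => h3 w) hr2 hrq hTr hfree).2 hqm)

/-- a subgroup with cyclic Sylow `r`-subgroups has at most one type -/
theorem cyc_one_type (hS : SemiAut (⇑Q)) (hD : H390.Lift.Data Q) {r : ℕ} (hr : r.Prime) (hr2 : r ≠ 2)
    {M : Subgroup (POmega F (⇑Q))} (hc : H264.FKS.Cyc r M) {x y : POmega F ⇑Q} (hx : x ∈ M) (hy : y ∈ M)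
    (hxr : orderOf x = r) (hyr : orderOf y = r) {a b : ℕ} (ha : Ty r x a) (hb : Ty r y b) : a = b := by
  have := Fact.mk hr
  have hfin : Finite (POmega F ⇑Q) := Quotient.finite _
  obtain ⟨c, j, hcj⟩ := hc.exists_conj (a := ⟨x, hx⟩) (b := ⟨y, hy⟩) (by rw [Subgroup.orderOf_mk, hxr])
    (by rw [Subgroup.orderOf_mk, hyr])
  have h1 : y = (c : POmega F ⇑Q) * x ^ j * (c : POmega F ⇑Q)⁻¹ := congrArg Subtype.val hcj
  obtain ⟨n, hn⟩ : ∃ n : ℕ, x ^ n = x ^ j := by
    have h2 : x ^ j ∈ Submonoid.powers x := mem_powers_iff_mem_zpowers.2 ⟨j, rfl⟩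
    exact h2
  have h3 : orderOf (x ^ n) = r := by
    rw [hn, ← hyr, h1]
    exact (orderOf_injective (MulAut.conj (c : POmega F ⇑Q)).toMonoidHom (MulAut.conj _).injective (x ^ j)).symm
  have h4 : Nat.Coprime n r := by
    rw [orderOf_pow, hxr] at h3
    have h5 : r.gcd n = 1 := by
      have h6 := Nat.div_mul_cancel (Nat.gcd_dvd_left r n)
      rw [h3] at h6
      have := hr.pos
      exact Nat.eq_of_mul_eq_mul_left this (by rw [h6, mul_one])
    rwa [Nat.coprime_comm, Nat.Coprime]
  have h5 : Ty r (x ^ n) a := ha.pow h4 hr.one_lt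
  have h6 : Ty r y a := by
    have h7 := h5.map hS (MulAut.conj (c : POmega F ⇑Q))
    rw [h1, ← hn]
    exact h7
  exact h6.unique hD (hr.odd_of_ne_two hr2) hb

end

section

variable {F : Type} [Field F] [Fintype F] {k r : ℕ}

/-- **the stabiliser of a minus point** -/
theorem special_two (h2 : (2 : F) ≠ 0) (hk : 2 ≤ k) (hr : PP (Nat.card F) (2 * k) r)
    {M : Subgroup (POmega F ⇑(quadOdd (2 * k) F))} {u : Unit ⊕ (Fin (2 * k) ⊕ Fin (2 * k)) → F}
    (hu : quadOdd (2 * k) F u ≠ 0)
    (hM : pre (⇑(quadOdd (2 * k) F)) M ≤ subspaceStabilizer (Submodule.span F {u}))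
    (hP : ¬ IsPlus (res (quadOdd (2 * k) F) (perp (quadOdd (2 * k) F) (Submodule.span F {u})))) :
    Two (POmega F ⇑(quadOdd (2 * k) F)) M := by
  have hS := semiAut_odd (F := F) (m := 2 * k) (by omega) h2
  obtain ⟨z, h1, h3, h4⟩ := exists_B h2 hk hr
  have hlt := hr.lt (by omega)
  refine two_of_type hS hr.prime h1 h3 h4 fun x hx _ => ?_
  refine not_ty_of_point h2 (H955.nondeg_iff.2 (quadOdd_nondegenerate h2)) (H884.El.card_odd (2 * k)) hr.prime (by omega)
    (hr.not_dvd (by omega)) ?_ hu hM hP x hx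
  rw [← hr.ord]
  exact pow_orderOf_eq_one _

/-- **subgroups with cyclic Sylow `r`-subgroups** -/
theorem cyc_two (h2 : (2 : F) ≠ 0) (hk : 2 ≤ k) (hr : PP (Nat.card F) (2 * k) r)
    {M : Subgroup (POmega F ⇑(quadOdd (2 * k) F))} (hc : H264.FKS.Cyc r M) :
    Two (POmega F ⇑(quadOdd (2 * k) F)) M := by
  have hS := semiAut_odd (F := F) (m := 2 * k) (by omega) h2
  have hD := H884.El.data_odd (F := F) (m := 2 * k) (by omega) h2
  obtain ⟨zA, a1, a2, a3⟩ := exists_A h2 hk hr
  obtain ⟨zB, b1, b2, b3⟩ := exists_B h2 hk hr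
  have hlt := hr.lt (by omega)
  by_cases hA : ∃ x ∈ M, orderOf x = r ∧ Ty r x (Nat.card F ^ (2 * k) * Nat.card F)
  · obtain ⟨x, hx, hxr, hxA⟩ := hA
    refine two_of_type hS hr.prime b1 b2 b3 fun y hy hyr hyB => ?_
    have h5 := cyc_one_type hS hD hr.prime (by omega) hc hx hy hxr hyr hxA hyB
    have h6 : 1 < Nat.card F := Finite.one_lt_card
    have h7 : 1 < Nat.card F ^ (2 * k) := Nat.one_lt_pow (by omega) h6
    nlinarith
  · exact two_of_type hS hr.prime a1 a2 a3 fun y hy hyr hyA => hA ⟨y, hy, hyr, hyA⟩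

end

end Cfsg.Agent.H265.Der
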