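import Cfsg.Agent.H265.Der.Eig
import Cfsg.Agent.H377.OddThree
import Cfsg.Agent.Lib.FieldAutCard

/-!
# No prime is `SC` for `Ω_{2m+1}(q)` (helper265, for S3500)
-/

set_option autoImplicit false

namespace Cfsg.Agent.H265.Der

open Cfsg Cfsg.Geo Cfsg.Agent.H439.Der Cfsg.Agent.LieClassical.OmegaReindex Cfsg.Agent.H94.PG

theorem three_pow {n : ℕ} (hn : 3 ≤ n) : 6 * n + 3 < 3 ^ n := by
  induction n, hn using Nat.le_induction with
  | base => norm_num
  | succ n hn ih => rw [pow_succ]; omega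

/-- **`NSC` for `Ω_{2m+1}(q)`.** -/
theorem nsc_odd {F : Type} [Field F] [Fintype F] {m : ℕ} (hm : 3 ≤ m) (hodd : Odd (Fintype.card F)) :
    NSC (POmega F (quadFormOdd m F)) := by
  intro v hv hd
  have ho : Odd (Nat.card F) := by rwa [Nat.card_eq_fintype_card]
  have h2 : (2 : F) ≠ 0 := H377.OOdd.two_ne_zero_of_odd ho
  have hfin : Finite (POmega F (quadFormOdd m F)) := Quotient.finite _
  obtain ⟨p, hp⟩ := CharP.exists F
  have hpp : p.Prime := CharP.char_is_prime F p
  have := Fact.mk hpp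
  obtain ⟨f, -, hf⟩ := FiniteField.card F p
  have hpF : p ∣ Nat.card F := by rw [Nat.card_eq_fintype_card, hf]; exact dvd_pow_self p f.ne_zero
  have hp2 : p ≠ 2 := by
    rintro rfl
    rw [hf, Nat.odd_pow_iff f.ne_zero] at hodd
    exact absurd hodd (by decide)
  have hp3 : 3 ≤ p := by
    have := hpp.two_le
    omega
  by_cases hv2 : v = 2
  · subst hv2
    obtain ⟨-, -, -, x, y, hx, hy, hxy⟩ := H377.OOdd.adj_two_of_char ho hm hpp hp2 hpF
    exact not_SC_of_commute hv hpp hp2.symm hy hx hxy.symm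
  by_cases hadj : Adj (POmega F (quadFormOdd m F)) v 2
  · obtain ⟨-, -, -, x, y, hx, hy, hxy⟩ := hadj
    exact not_SC_of_commute hv Nat.prime_two hv2 hx hy hxy
  obtain ⟨h3, -⟩ := H377.OOdd.info ho hm hv hv2 hd hadj
  have hvF : (v : F) ≠ 0 := by
    intro h0
    have h4 : p ∣ v := (CharP.cast_eq_zero_iff F p v).1 h0
    have h5 : p = v := (Nat.prime_dvd_prime_iff_eq hpp hv).1 h4
    subst h5
    have h6 : p ∣ Nat.card F ^ m := dvd_pow hpF (by omega)
    rcases h3 with h3 | h3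
    · have h7 := Nat.dvd_sub h6 h3
      have h8 : 1 ≤ Nat.card F ^ m := Nat.one_le_pow _ _ Nat.card_pos
      rw [show Nat.card F ^ m - (Nat.card F ^ m - 1) = 1 by omega] at h7
      exact hpp.one_lt.ne' (Nat.dvd_one.1 h7)
    · exact hpp.one_lt.ne' (Nat.dvd_one.1 ((Nat.dvd_add_right h6).1 h3))
  have hbig : ∀ h : SC (POmega F (quadFormOdd m F)) v, v - 1 ≤ f * (2 * m + 1) := by
    intro h
    have hS := semiAut_odd (F := F) hm h2
    have hD := H884.El.data_odd (F := F) hm h2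
    have h5 : ∀ (_ : v ∣ Nat.card (POmega F ⇑(quadOdd m F))) (_ : SC (POmega F ⇑(quadOdd m F)) v),
        v - 1 ≤ Nat.card (F ≃+* F) * Fintype.card (Unit ⊕ (Fin m ⊕ Fin m)) :=
      fun h6 h7 => sc_bound hS hD hv hv2 hvF h6 h7
    rw [coe_quadOdd] at h5
    have h8 := h5 hd h
    rw [Lib.FieldAutCard.card_ringAut f.pos hf, H884.El.card_odd] at h8
    exact h8
  have key : ∀ N : ℕ, v ∣ N → (∃ g : POmega F (quadFormOdd m F), orderOf g = N) → Nat.card F ^ m ≤ 2 * N + 1 →
      ¬ SC (POmega F (quadFormOdd m F)) v := by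
    rintro N hN ⟨g, hg⟩ hle hsc
    by_cases hne : N = v
    · subst hne
      have h4 := hbig hsc
      rw [Nat.card_eq_fintype_card, hf, ← pow_mul] at hle
      have hf1 : 1 ≤ (f : ℕ) := f.pos
      have h5 : (f : ℕ) * 3 ≤ f * m := Nat.mul_le_mul_left _ hm
      have h6 := three_pow (n := f * m) (by omega)
      have h7 : 3 ^ ((f : ℕ) * m) ≤ p ^ ((f : ℕ) * m) := Nat.pow_le_pow_left hp3 _
      have h8 : (f : ℕ) * (2 * m + 1) = 2 * (f * m) + f := by ring
      rw [h8] at h4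
      have := hv.one_lt
      omega
    · exact not_SC_of_orderOf hv (by rw [hg]; exact hN) (by rw [hg]; exact hne) hsc
  have hq : Odd (Nat.card F ^ m) := ho.pow
  obtain ⟨t, ht⟩ := hq
  have hco : Nat.Coprime v 2 := (Nat.coprime_primes hv Nat.prime_two).2 hv2
  rcases h3 with h3 | h3
  · have h4 : Nat.card F ^ m - 1 = 2 * t := by omega
    rw [h4] at h3
    refine key t (hco.dvd_of_dvd_mul_left h3) (H377.OOdd.exists_even_tor ho hm (ε := 1) ?_) (by omega)
    exact H377.elt_tor_plus (by omega) (by rw [h4])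
  · have h4 : Nat.card F ^ m + 1 = 2 * (t + 1) := by omega
    rw [h4] at h3
    refine key (t + 1) (hco.dvd_of_dvd_mul_left h3) (H377.OOdd.exists_even_tor ho hm (ε := -1) ?_) (by omega)
    exact H377.elt_tor_minus (by omega) (by rw [h4])

end Cfsg.Agent.H265.Der
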