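import Cfsg.Agent.H265.Der.Elts
import Cfsg.Agent.UGT.U2.Rec.Congr

/-!
# Elements of orders 9 and 18 in `Ω₇(3)` (helper265, for S3500)
-/

set_option autoImplicit false
set_option linter.unusedSectionVars false

namespace Cfsg.Agent.H265.Der.O73

open Cfsg Cfsg.Geo Cfsg.Agent.H439.Der Cfsg.Agent.LieClassical.OmegaReindex Matrix

local instance fact_three : Fact (Nat.Prime 3) := ⟨by norm_num⟩

abbrev I7 := Unit ⊕ (Fin 3 ⊕ Fin 3)

abbrev M7 := Matrix I7 I7 (ZMod 3)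

/-- the position of an index -/
def ps : I7 → Fin 7
  | .inl _ => 0
  | .inr (.inl i) => ⟨i.1 + 1, by omega⟩
  | .inr (.inr i) => ⟨i.1 + 4, by omega⟩

/-- a matrix from its table -/
def tb (A : Matrix (Fin 7) (Fin 7) (ZMod 3)) : M7 := Matrix.of fun i j => A (ps i) (ps j)

def m1 : M7 := tb !![2, 0, 1, 0, 1, 0, 1; 0, 0, 0, 0, 2, 0, 0; 0, 0, 1, 0, 0, 0, 0; 1, 0, 1, 2, 2, 0, 1; 2, 2, 2, 2, 0, 0, 1; 0, 0, 0, 2, 1, 1, 0; 0, 0, 2, 0, 1, 0, 2]
def m2 : M7 := tb !![0, 2, 1, 2, 0, 0, 2; 1, 1, 1, 1, 0, 0, 2; 0, 0, 1, 0, 0, 0, 0; 2, 1, 1, 2, 0, 0, 1; 0, 0, 2, 1, 2, 0, 0; 1, 2, 1, 2, 2, 1, 0; 2, 2, 2, 2, 2, 0, 2]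
def m4 : M7 := tb !![1, 2, 0, 1, 1, 0, 1; 1, 2, 2, 0, 1, 0, 0; 0, 0, 1, 0, 0, 0, 0; 1, 0, 2, 2, 2, 0, 1; 2, 1, 1, 1, 1, 0, 1; 1, 2, 2, 0, 0, 1, 2; 1, 0, 1, 1, 2, 0, 2]
def m8 : M7 := tb !![1, 1, 2, 2, 2, 0, 2; 2, 1, 1, 2, 1, 0, 2; 0, 0, 1, 0, 0, 0, 0; 2, 1, 0, 2, 0, 0, 1; 1, 1, 1, 0, 2, 0, 0; 0, 2, 1, 0, 1, 1, 1; 2, 1, 1, 1, 0, 0, 2]
def m12 : M7 := tb !![1, 0, 0, 0, 0, 0, 0; 0, 1, 1, 0, 0, 0, 0; 0, 0, 1, 0, 0, 0, 0; 0, 0, 1, 1, 0, 0, 0; 0, 0, 2, 0, 1, 0, 0; 0, 1, 0, 2, 2, 1, 2; 0, 0, 1, 0, 0, 0, 1]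
def m16 : M7 := tb !![1, 2, 0, 1, 1, 0, 1; 1, 2, 0, 0, 1, 0, 0; 0, 0, 1, 0, 0, 0, 0; 1, 0, 0, 2, 2, 0, 1; 2, 1, 0, 1, 1, 0, 1; 1, 0, 0, 2, 2, 1, 1; 1, 0, 2, 1, 2, 0, 2]
def m18 : M7 := tb !![0, 1, 2, 0, 1, 0, 0; 2, 1, 2, 2, 2, 0, 0; 0, 0, 1, 0, 0, 0, 0; 0, 0, 0, 1, 0, 0, 0; 2, 2, 2, 1, 1, 0, 0; 1, 2, 1, 0, 2, 1, 0; 0, 1, 0, 1, 2, 0, 1]

set_option maxRecDepth 100000 in
theorem e2 : m1 ^ 2 = m2 := by rw [pow_two]; decide +kernel
set_option maxRecDepth 100000 in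
theorem e4 : m1 ^ 4 = m4 := by rw [show 4 = 2 + 2 from rfl, pow_add, e2]; decide +kernel
set_option maxRecDepth 100000 in
theorem e8 : m1 ^ 8 = m8 := by rw [show 8 = 4 + 4 from rfl, pow_add, e4]; decide +kernel
set_option maxRecDepth 100000 in
theorem e12 : m1 ^ 12 = m12 := by rw [show 12 = 8 + 4 from rfl, pow_add, e8, e4]; decide +kernel
set_option maxRecDepth 100000 in
theorem e16 : m1 ^ 16 = m16 := by rw [show 16 = 8 + 8 from rfl, pow_add, e8]; decide +kernel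
set_option maxRecDepth 100000 in
theorem e18 : m1 ^ 18 = m18 := by rw [show 18 = 16 + 2 from rfl, pow_add, e16, e2]; decide +kernel
set_option maxRecDepth 100000 in
theorem e36 : m1 ^ 36 = 1 := by rw [show 36 = 18 + 18 from rfl, pow_add, e18]; decide +kernel

/-- the matrix of the polar form -/
def bp : M7 := tb !![2, 0, 0, 0, 0, 0, 0; 0, 0, 0, 0, 1, 0, 0; 0, 0, 0, 0, 0, 1, 0; 0, 0, 0, 0, 0, 0, 1; 0, 1, 0, 0, 0, 0, 0; 0, 0, 1, 0, 0, 0, 0; 0, 0, 0, 1, 0, 0, 0]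

set_option maxRecDepth 100000 in
theorem bp_eq : m1ᵀ * bp * m1 = bp := by decide +kernel

theorem q_eq (v : I7 → ZMod 3) : quadFormOdd 3 (ZMod 3) v = 2 * (v ⬝ᵥ (bp *ᵥ v)) := by
  have h4 : (4 : ZMod 3) = 1 := by decide
  have h5 : v ⬝ᵥ (bp *ᵥ v) = 2 * quadFormOdd 3 (ZMod 3) v := by
    simp only [quadFormOdd, dotProduct, mulVec, Fintype.sum_sum_type, Fin.sum_univ_three, Finset.univ_unique,
      Finset.sum_singleton, bp, tb, ps, Matrix.of_apply]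
    simp
    ring
  rw [h5, ← mul_assoc, show (2 : ZMod 3) * 2 = 4 by norm_num, h4, one_mul]

theorem iso (v : I7 → ZMod 3) : quadFormOdd 3 (ZMod 3) (m1 *ᵥ v) = quadFormOdd 3 (ZMod 3) v := by
  rw [q_eq, q_eq, Matrix.mulVec_mulVec, Matrix.dotProduct_mulVec, Matrix.vecMul_mulVec, ← Matrix.dotProduct_mulVec,
    ← mul_assoc, bp_eq]

theorem orderOf_m2 : orderOf (m1 ^ 2) = 18 := by
  apply orderOf_eq_of_pow_and_pow_div_prime (by norm_num)
  · rw [← pow_mul]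
    exact e36
  · intro p hp hp18
    have h5 : p ∈ (18 : ℕ).primeFactors := Nat.mem_primeFactors.2 ⟨hp, hp18, by norm_num⟩
    have h6 : (18 : ℕ).primeFactors = {2, 3} := by decide +kernel
    rw [h6] at h5
    simp only [Finset.mem_insert, Finset.mem_singleton] at h5
    rcases h5 with rfl | rfl
    · rw [← pow_mul]
      change m1 ^ 18 ≠ 1
      rw [e18]
      intro h
      exact absurd h (by decide +kernel)
    · rw [← pow_mul]
      change m1 ^ 12 ≠ 1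
      rw [e12]
      intro h
      exact absurd h (by decide +kernel)

theorem row_fix (k : ℕ) (j : I7) : (m1 ^ k) (.inr (.inl 1)) j = (1 : M7) (.inr (.inl 1)) j := by
  induction k with
  | zero => rw [pow_zero]
  | succ k ih =>
    rw [pow_succ', Matrix.mul_apply]
    have h1 : ∀ i : I7, m1 (.inr (.inl 1)) i = (1 : M7) (.inr (.inl 1)) i := by decide +kernel
    simp only [h1]
    rw [← Matrix.mul_apply, one_mul, ih]

theorem ne_neg (k : ℕ) : m1 ^ k ≠ -1 := by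
  intro h
  have h1 := row_fix k (.inr (.inl 1))
  rw [h, Matrix.neg_apply] at h1
  exact absurd h1 (by decide +kernel)

theorem exists_eighteen' : ∃ x : POmega (ZMod 3) (quadFormOdd 3 (ZMod 3)), orderOf x = 18 := by
  have h2 : (2 : ZMod 3) ≠ 0 := by decide
  have hpow : ∀ k : ℕ, (Matrix.toLin' m1) ^ k = Matrix.toLin' (m1 ^ k) := fun k =>
    (map_pow (Matrix.toLinAlgEquiv' (R := ZMod 3) (n := I7)) m1 k).symm
  obtain ⟨z, hz, -⟩ := exists_act (quadOdd 3 (ZMod 3)) (H955.nondeg_iff.2 (quadOdd_nondegenerate h2))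
    (by rw [H884.El.card_odd]; omega) (⇑(quadOdd 3 (ZMod 3))) (LinearEquiv.refl _ _) 1 one_ne_zero
    (fun u => by rw [one_mul]; rfl) (Matrix.toLin' m1) (by
      intro v
      rw [Matrix.toLin'_apply, coe_quadOdd]
      exact iso v) 18 (by
      intro j
      rw [hpow, ← orderOf_m2, orderOf_dvd_iff_pow_eq_one, ← pow_mul]
      constructor
      · rintro (h | h)
        · exact Matrix.toLin'.injective (by rw [h, Matrix.toLin'_one]; rfl)
        · exfalso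
          apply ne_neg (2 * j)
          apply Matrix.toLin'.injective
          rw [h, map_neg, Matrix.toLin'_one]
          rfl
      · intro h
        left
        rw [h, Matrix.toLin'_one]
        rfl)
  rw [← coe_quadOdd]
  exact ⟨_, hz⟩

theorem exists_eighteen {F : Type} [Field F] [Fintype F] (hF : Fintype.card F = 3) :
    ∃ x : POmega F (quadFormOdd 3 F), orderOf x = 18 := by
  obtain ⟨x, hx⟩ := exists_eighteen'
  obtain ⟨e⟩ := Cfsg.Agent.UGT.U2.Rec.Congr.nonempty_POmegaOdd (ZMod.ringEquivOfPrime F Nat.prime_three hF) 3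
  exact ⟨e x, by rw [MulEquiv.orderOf_eq, hx]⟩

/-- subgroups of order not divisible by `9` -/
theorem two_of_nine {F : Type} [Field F] [Fintype F] (hF : Fintype.card F = 3) {R : Subgroup (POmega F (quadFormOdd 3 F))}
    (h : ¬ 9 ∣ Nat.card R) : Two (POmega F (quadFormOdd 3 F)) R := by
  obtain ⟨x, hx⟩ := exists_eighteen hF
  have h9 : orderOf (x ^ 2) = 9 := by rw [orderOf_pow, hx]; norm_num
  exact Two.of_not_dvd h (not_SC_of_two_orders (x := x) (y := x ^ 2) (by rw [hx]; norm_num) (by rw [h9])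
    (by rw [hx, h9]; norm_num))

end Cfsg.Agent.H265.Der.O73
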