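import Cfsg.Agent.H265.Der.Geo
import Cfsg.Agent.H265.Der.O73
import Cfsg.Agent.H278.ElAsm
import Cfsg.Agent.H264.FKS.ResCore
import Cfsg.Agent.H884.CxMain
import Cfsg.Agent.S2126

/-!
# The row `Ω_{2m+1}(q)` of S3500 (helper265)

`row_oodd` : every maximal subgroup of `Ω_{2m+1}(q)`, `m ≥ 3`, `q` odd, misses two classes.
-/

set_option autoImplicit false
set_option linter.unusedSectionVars false

namespace Cfsg.Agent.H265.Der

open Cfsg Cfsg.Geo Cfsg.Agent.H439.Der Cfsg.Agent.LieClassical.OmegaReindex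
open Cfsg.Agent.OrdDiv Cfsg.Agent.H436 Cfsg.Agent.H264.FKS
open Cfsg.Agent.H884.El (PP)
open Cfsg.Agent.H938.Sax (PGap)
open Cfsg.Agent.H278.El.SporNum (IsCl exc)
open Cfsg.Agent.H278.El.AltNum (dimOf surv)
open scoped MatrixGroups

theorem prim_pp {q e r : ℕ} (hq : 1 ≤ q) (h : Prim q e r) : PP q e r := by
  refine ⟨h.prime, Nat.dvd_antisymm ?_ ?_⟩
  · exact H72.AdjOrth.ee_dvd hq ((h.dvd_iff e).2 dvd_rfl)
  · exact (h.dvd_iff _).1 (H72.AdjOrth.dvd_pow_ee hq)

section

variable {F : Type} [Field F] [Fintype F] {m : ℕ}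

/-- the geometric part -/
theorem geo_row (hm : 3 ≤ m) (hodd : Odd (Fintype.card F)) (M : Subgroup (POmega F (quadFormOdd m F))) :
    PGap _ M ∨ InOrthogonalResidualClass (preO (quadFormOdd m F) M) ∨ Two (POmega F (quadFormOdd m F)) M := by
  have h2 := H390.two_ne_zero_of_odd hodd
  have h : ∀ M : Subgroup (POmega F (⇑(quadOdd m F))),
      PGap _ M ∨ InOrthogonalResidualClass (preO (⇑(quadOdd m F)) M) ∨ Two (POmega F (⇑(quadOdd m F))) M := by
    intro M
    rcases H884.El.odd_miss h2 hm (H884.El.card_odd m) (H955.nondeg_iff.2 (quadOdd_nondegenerate h2))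
      (H884.El.data_odd hm h2) M with h | h | ⟨⟨k, hk⟩, v, hv, hMv, hP⟩
    · exact Or.inl h
    · exact Or.inr (Or.inl h)
    · obtain rfl : m = 2 * k := by omega
      obtain ⟨r, hr⟩ := exists_prim (q := Nat.card F) (e := 2 * k) Finite.one_lt_card (by omega) (by
        rintro ⟨h3, -⟩
        rw [Nat.card_eq_fintype_card] at h3
        rw [h3] at hodd
        exact absurd hodd (by decide))
      exact Or.inr (Or.inr (special_two h2 (by omega) (prim_pp Nat.card_pos hr) hv hMv hP))
  rw [coe_quadOdd] at h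
  exact h M

/-- the subgroups with cyclic Sylow `r`-subgroups -/
theorem cyc_row (hm : 3 ≤ m) (hodd : Odd (Fintype.card F)) (he : m % 2 = 0) {r : ℕ} (hr : Prim (Fintype.card F) m r)
    {M : Subgroup (POmega F (quadFormOdd m F))} (hc : Cyc r M) : Two (POmega F (quadFormOdd m F)) M := by
  have h2 := H390.two_ne_zero_of_odd hodd
  obtain ⟨k, rfl⟩ : ∃ k, m = 2 * k := ⟨m / 2, by omega⟩
  rw [← Nat.card_eq_fintype_card] at hr
  have h : ∀ M : Subgroup (POmega F (⇑(quadOdd (2 * k) F))), Cyc r M → Two (POmega F (⇑(quadOdd (2 * k) F))) M :=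
    fun M hM => cyc_two h2 (by omega) (prim_pp Nat.card_pos hr) hM
  rw [coe_quadOdd] at h
  exact h M hc

end

/-- subgroups with socle `Sz(8)` have order not divisible by `9` -/
theorem not_nine {T : Type} [Group T] [Finite T] {R : Subgroup T} (S : Subgroup R) [S.Normal] [IsSimpleGroup S]
    (hna : ¬ IsMulCommutative S) (hC : Subgroup.centralizer (S : Set R) = ⊥) (hS : IsNamed (.sz 8) S) :
    ¬ 9 ∣ Nat.card R := by
  intro h9
  have h1 := h9.trans (dvd_aut S hC)
  rw [← H934.OutB.card_out_mul S hna, hS.ord] at h1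
  obtain ⟨F, _, _, m, hm, hF, hq, ⟨e⟩⟩ := hS.real
  have hm1 : m = 1 := by
    have h3 : 2 ^ 3 = 2 ^ (2 * m + 1) := by rw [← hq]; norm_num
    have h4 := Nat.pow_right_injective (le_refl 2) h3
    omega
  subst hm1
  rw [card_out_congr e, Cfsg.Agent.S2126.result le_rfl (by rw [hF]; norm_num)] at h1
  exact absurd h1 (by decide +kernel)

theorem named_of (tab : OrderTable.{0}) (hK : ∀ (X : Type) [Group X] [Finite X] [IsSimpleGroup X],
    Cfsg.IsKnownSimple' X) {S : Type} [Group S] [Finite S] [IsSimpleGroup S] (hna : ¬ IsMulCommutative S) :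
    ∃ g, IsNamed g S :=
  exists_named tab (hK S) fun h => hna ⟨⟨h⟩⟩

/-- **`Ω_{2m+1}(q)`, `q` odd, `m ≥ 3`.** -/
theorem row_oodd (tab : OrderTable.{0}) (hK : ∀ (X : Type) [Group X] [Finite X] [IsSimpleGroup X],
    Cfsg.IsKnownSimple' X) {F : Type} [Field F] [Fintype F] {m : ℕ} (hm : 3 ≤ m) (hodd : Odd (Fintype.card F)) :
    Row (POmega F (quadFormOdd m F)) := by
  intro R hR
  left
  have hT : IsNamed (.oodd m (Fintype.card F)) (POmega F (quadFormOdd m F)) := named_oodd (F := F) hm hodd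
  have hfin : Finite (POmega F (quadFormOdd m F)) := Quotient.finite _
  have hnsc := nsc_odd (F := F) hm hodd
  have hmiss : Miss R → Two (POmega F (quadFormOdd m F)) R := fun h => Two.of_pgap hnsc h
  obtain ⟨p, hchF⟩ := CharP.exists F
  have hp : p.Prime := CharP.char_is_prime F p
  obtain ⟨f, -, hf⟩ := FiniteField.card F p
  rcases geo_row hm hodd R with h | ⟨P, hP, -⟩ | h
  · exact hmiss h
  · obtain ⟨S, hSn, hSs, hna, hC, ⟨e⟩⟩ := exists_res_odd hm hodd (M := R) hP
    obtain ⟨g, hg⟩ := named_of tab hK hna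
    have hcard : Fintype.card (Unit ⊕ (Fin m ⊕ Fin m)) = dimOf (.oodd m (Fintype.card F)) := by
      rw [Fintype.card_sum, Fintype.card_sum, Fintype.card_fin, Fintype.card_unit]
      change 1 + (m + m) = 2 * m + 1
      omega
    refine H278.El.Asm.res_kill (p := p) hT trivial ?_ ?_ S hC hg e hcard hmiss ?_ ?_
    · simp only [surv, List.mem_cons, reduceCtorEq, or_false, List.not_mem_nil, not_false_eq_true]
    · intro g' hg'
      simp only [exc, List.mem_cons, Prod.mk.injEq, reduceCtorEq, and_false, or_false, List.not_mem_nil] at hg'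
    · intro hch
      by_cases hm0 : Miss R
      · exact hmiss hm0
      have hfull : Full (POmega F (quadFormOdd m F)) R := by
        intro r hr hd
        by_contra h1
        exact hm0 ⟨r, hr, hd, h1⟩
      rw [hf] at hT
      obtain ⟨he, rfl⟩ := full_oodd hT hp f.pos hm hR.1 hfull S hna hC hg hch
      obtain ⟨r, hr, hlt⟩ := exists_big hp f.pos hm (by
        rintro ⟨rfl, -⟩
        rw [hf, Nat.odd_pow_iff f.ne_zero] at hodd
        exact absurd hodd (by decide))
      exact cyc_row hm hodd he (by rw [hf]; exact hr) (cyc_four S hna hC (Or.inl rfl) hg hp f.pos hr hlt hm he)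
    · intro s hs hsp hch
      rcases H884.Cx.cross_row hp hT trivial ⟨f, hf⟩ hcard S hna hC hP.perfect e hs hsp hg hch with h | h
      · exact hmiss h
      · simp only [H884.Cx.excP, List.mem_cons, Prod.mk.injEq, Grp.oodd.injEq, reduceCtorEq, and_false, or_false,
          false_or, List.not_mem_nil] at h
        obtain ⟨rfl, rfl, h3⟩ := h
        exact O73.two_of_nine h3 (not_nine S hna hC hg)
  · exact h

end Cfsg.Agent.H265.Der
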