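import Cfsg.Agent.H439.Der.Tools
import Cfsg.Agent.AutOrth.Main
import Cfsg.Agent.H938.Sax.OrthGap

/-!
# Automorphisms of `Ω_{2m+1}(q)` on elements of odd order (helper265, for S3500)

* `SemiAut Q` : every automorphism of `PΩ(Q)` comes from a semisimilarity; every element of `Ω(Q)` can be transported
* `Ty r x n` : `x` has a lift `g` with `g ^ r = 1` and exactly `n` fixed vectors; for odd `r` this is invariant under
  automorphisms (`Ty.map`), unique (`Ty.unique`)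
-/

set_option autoImplicit false
set_option linter.unusedSectionVars false

namespace Cfsg.Agent.H265.Der

open Cfsg Cfsg.Geo Cfsg.Agent.LieClassical.OrthCore Cfsg.Agent.H955
open Cfsg.Agent.LieClassical.OmegaReindex Cfsg.Agent.LieClassical.QuadForms
open scoped MatrixGroups Matrix

variable {ι : Type} [Fintype ι] [DecidableEq ι] {F : Type} [Field F] [Fintype F] {Q : QuadraticForm F (ι → F)}

/-- the matrix of an element of `Ω(Q)` -/
abbrev ac {Q : (ι → F) → F} (g : Omega F Q) : Matrix ι ι F := (((g : isometryGroup F Q) : GL ι F) : Matrix ι ι F)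

omit [Fintype F] in
theorem ac_mul {Q : (ι → F) → F} (g h : Omega F Q) : ac (g * h) = ac g * ac h := rfl

omit [Fintype F] in
theorem ac_one {Q : (ι → F) → F} : ac (1 : Omega F Q) = 1 := rfl

omit [Fintype F] in
theorem ac_pow {Q : (ι → F) → F} (g : Omega F Q) (n : ℕ) : ac (g ^ n) = ac g ^ n := by
  induction n with
  | zero => rw [pow_zero, pow_zero]; rfl
  | succ n ih => rw [pow_succ, pow_succ, ac_mul, ih]

omit [Fintype F] in
theorem ac_injective {Q : (ι → F) → F} : Function.Injective (ac (Q := Q)) := fun _ _ h =>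
  Subtype.ext (Subtype.ext (Units.ext h))

/-- every automorphism comes from a semisimilarity -/
def SemiAut (Q : (ι → F) → F) : Prop :=
  ∀ α : POmega F Q ≃* POmega F Q, ∃ (σ : F ≃+* F) (μ : F) (T : (ι → F) ≃+ (ι → F)), μ ≠ 0 ∧
    (∀ (c : F) (v : ι → F), T (c • v) = σ c • T v) ∧ (∀ v, Q (T v) = μ * σ (Q v)) ∧
    ∀ g : Omega F Q, ∃ g' : Omega F Q, (∀ v, ac g' *ᵥ T v = T (ac g *ᵥ v)) ∧
      α (QuotientGroup.mk g) = QuotientGroup.mk g'

omit [Fintype F] in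
theorem quadOdd_eq (m : ℕ) : quadOdd m F = Cfsg.Agent.LieClassical.QuadForms.oddForm m F := by
  apply DFunLike.coe_injective
  rw [coe_quadOdd, Cfsg.Agent.LieClassical.QuadForms.coe_oddForm]

omit [Fintype F] in
theorem quadOdd_eq' (m : ℕ) : quadOdd m F = Cfsg.Agent.LieClassical.OrthForms.oddForm m F := by
  apply DFunLike.coe_injective
  rw [coe_quadOdd, Cfsg.Agent.LieClassical.OrthForms.coe_oddForm]

theorem semiAut_odd {m : ℕ} (hm : 3 ≤ m) (h2 : (2 : F) ≠ 0) : SemiAut (⇑(quadOdd m F)) := by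
  intro α
  have h1 : ∀ α : MulAut (POmega F ⇑(quadOdd m F)), AutOrth.Main.Ind (⇑(quadOdd m F)) α := by
    rw [coe_quadOdd]
    exact AutOrth.Main.all_odd hm h2
  have hG : Cfsg.Agent.LieClassical.OrthTrans.Good (quadOdd m F) := by
    rw [quadOdd_eq]
    exact AutOrth.Main.good_odd (show 1 < m by omega) h2
  obtain ⟨σ, μ, T, ⟨hμ, hs, hQ⟩, hT⟩ := h1 α
  refine ⟨σ, μ, T, hμ, hs, hQ, fun g => ?_⟩
  have hM : AutOrth.SemiSim.IsSemi (quadOdd m F) T σ μ := ⟨hμ, hs, hQ⟩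
  obtain ⟨g', hg'⟩ := (AutOrth.Main.oe hG).surjective (AutOrth.SemiSim.conjE hM (AutOrth.Main.oe hG g))
  have h3 : ∀ v, ac g' *ᵥ T v = T (ac g *ᵥ v) := by
    intro v
    rw [← AutOrth.Main.oe_apply hG, ← AutOrth.Main.oe_apply hG, hg', AutOrth.SemiSim.conjE_apply]
  exact ⟨g', h3, hT g g' h3⟩

/-! ### lifts of odd order -/

theorem lift_eq (hD : H390.Lift.Data Q) {g g' : Omega F ⇑Q} {N : ℕ} (hN : Odd N) (h1 : g ^ N = 1) (h2 : g' ^ N = 1)
    (h : (QuotientGroup.mk g : POmega F ⇑Q) = QuotientGroup.mk g') : g = g' := by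
  have h3 : g⁻¹ * g' ∈ Subgroup.center (Omega F ⇑Q) := QuotientGroup.eq.1 h
  have h4 := H390.Lift.center_sq hD _ h3
  have h5 : g' = g * (g⁻¹ * g') := by group
  have h6 : Commute g (g⁻¹ * g') := (Subgroup.mem_center_iff.1 h3 g)
  have h7 : (g⁻¹ * g') ^ N = 1 := by
    have h8 := h2
    rw [h5, h6.mul_pow, h1, one_mul] at h8
    exact h8
  obtain ⟨j, hj⟩ := hN
  rw [hj, pow_succ, pow_mul, h4, one_pow, one_mul] at h7
  exact (inv_mul_eq_one.1 h7)

theorem exists_lift (hD : H390.Lift.Data Q) {x : POmega F ⇑Q} {N : ℕ} (hN : Odd N) (hx : orderOf x = N) :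
    ∃ g : Omega F ⇑Q, (QuotientGroup.mk g : POmega F ⇑Q) = x ∧ orderOf g = N := by
  obtain ⟨y, rfl⟩ := QuotientGroup.mk'_surjective (Subgroup.center (Omega F (⇑Q))) x
  obtain ⟨n, h1, h2⟩ := H938.Sax.exists_lift_odd (QuotientGroup.mk' (Subgroup.center (Omega F (⇑Q)))) (fun y hy =>
    H390.Lift.center_sq hD y ((QuotientGroup.eq_one_iff y).1 hy)) hN hx
  exact ⟨y ^ n, h1, h2⟩

/-! ### the number of fixed vectors -/

/-- the number of fixed vectors -/
noncomputable def fixn {Q : (ι → F) → F} (g : Omega F Q) : ℕ := Nat.card {v : ι → F // ac g *ᵥ v = v}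

/-- `x` has a lift `g` with `g ^ r = 1` and `n` fixed vectors -/
def Ty (r : ℕ) {Q : (ι → F) → F} (x : POmega F Q) (n : ℕ) : Prop :=
  ∃ g : Omega F Q, (QuotientGroup.mk g : POmega F Q) = x ∧ g ^ r = 1 ∧ fixn g = n

theorem Ty.unique (hD : H390.Lift.Data Q) {r : ℕ} (hr : Odd r) {x : POmega F ⇑Q} {n n' : ℕ} (h : Ty r x n)
    (h' : Ty r x n') : n = n' := by
  obtain ⟨g, h1, h2, rfl⟩ := h
  obtain ⟨g', h3, h4, rfl⟩ := h'
  rw [lift_eq hD hr h2 h4 (h1.trans h3.symm)]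

omit [Fintype F] in
theorem pow_eq_one_of_semi {Q : (ι → F) → F} {T : (ι → F) ≃+ (ι → F)} {g g' : Omega F Q}
    (h : ∀ v, ac g' *ᵥ T v = T (ac g *ᵥ v)) (k : ℕ) (v : ι → F) : ac (g' ^ k) *ᵥ T v = T (ac (g ^ k) *ᵥ v) := by
  induction k with
  | zero => rw [pow_zero, pow_zero, ac_one, Matrix.one_mulVec, Matrix.one_mulVec]
  | succ k ih =>
    rw [pow_succ', pow_succ', ac_mul, ac_mul, ← Matrix.mulVec_mulVec, ih, h, Matrix.mulVec_mulVec]

omit [Fintype F] in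
theorem eq_one_of_act {Q : (ι → F) → F} {g : Omega F Q} (h : ∀ v, ac g *ᵥ v = v) : g = 1 := by
  apply ac_injective
  rw [ac_one]
  apply Matrix.ext_of_mulVec_single
  intro i
  rw [h, Matrix.one_mulVec]

theorem Ty.map (hS : SemiAut (⇑Q)) {r : ℕ} {x : POmega F ⇑Q} {n : ℕ} (h : Ty r x n)
    (α : POmega F ⇑Q ≃* POmega F ⇑Q) : Ty r (α x) n := by
  obtain ⟨g, rfl, h2, rfl⟩ := h
  obtain ⟨σ, μ, T, hμ, hs, hQ, hT⟩ := hS α
  obtain ⟨g', h3, h4⟩ := hT g
  refine ⟨g', h4.symm, ?_, ?_⟩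
  · apply eq_one_of_act
    intro v
    obtain ⟨w, rfl⟩ := T.surjective v
    rw [pow_eq_one_of_semi h3, h2, ac_one, Matrix.one_mulVec]
  · refine Nat.card_congr (Equiv.subtypeEquiv T.toEquiv.symm fun v => ?_)
    obtain ⟨w, rfl⟩ := T.surjective v
    change _ ↔ ac g *ᵥ T.symm (T w) = T.symm (T w)
    rw [h3, AddEquiv.symm_apply_apply, T.injective.eq_iff]

omit [Fintype F] in
theorem fix_pow {Q : (ι → F) → F} {g : Omega F Q} {v : ι → F} (h : ac g *ᵥ v = v) (k : ℕ) : ac (g ^ k) *ᵥ v = v := by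
  induction k with
  | zero => rw [pow_zero, ac_one, Matrix.one_mulVec]
  | succ k ih => rw [pow_succ', ac_mul, ← Matrix.mulVec_mulVec, ih, h]

theorem Ty.pow {r : ℕ} {x : POmega F ⇑Q} {n : ℕ} (h : Ty r x n) {k : ℕ} (hk : Nat.Coprime k r) (hr : 1 < r) :
    Ty r (x ^ k) n := by
  obtain ⟨g, rfl, h2, rfl⟩ := h
  refine ⟨g ^ k, rfl, ?_, ?_⟩
  · rw [← pow_mul, mul_comm, pow_mul, h2, one_pow]
  · obtain ⟨j, hj⟩ := Nat.exists_mul_mod_eq_one_of_coprime hk hr
    have h3 : (g ^ k) ^ j = g := by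
      rw [← pow_mul, ← Nat.div_add_mod (k * j) r, hj.2, pow_add, pow_mul, h2, one_pow, one_mul, pow_one]
    refine Nat.card_congr (Equiv.subtypeEquivRight fun v => ⟨fun h => ?_, fun h => fix_pow h k⟩)
    have h4 := fix_pow h j
    rwa [h3] at h4

end Cfsg.Agent.H265.Der
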